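import Mathlib
import Cfsg.Agent.H935.Meet.Base_m3
import Cfsg.Agent.SporadicA.PermTab
import Cfsg.Agent.SporadicStructure.M24El
import Cfsg.Agent.H603.SporElim
import Cfsg.Agent.MonsterU.CoFrameF
import Cfsg.Agent.MonsterU.CoFrameL2
import Cfsg.Agent.Co2Type.FactsClass
import Cfsg.Agent.KFacts.CoInv.TwoMono
import Cfsg.Agent.Leech.Dot16Trans
import Cfsg.Agent.CpAutBig.CoZero
import Cfsg.Agent.FastGrp
import Cfsg.Agent.Prune
set_option linter.all false

section
prune_inst 0x7f00000000000000000000000000000000000000000000000000000000000000000000000000000000000000000000000000000000000000000000000000000000000000000000000000000000000000003fffffffffffffffffffffffffffbeffbdffffffff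

-- part: H265/Meet/Tab
section
set_option linter.all false
open scoped Cfsg.Agent.FastGrp

/-!
# Trivial intersections of Sylow 2-subgroups: certificates by permutation tables (helper265)

A 2-group is given by a polycyclic sequence of tables; an element is coded by a number `e`.
-/

set_option autoImplicit false

namespace Cfsg.Agent.H265.MeetT

open Subgroup Cfsg.Agent.SporadicA.PermTab Cfsg.Agent.H68.MeetB

section pc

variable {G : Type*} [Group G]

/-- the product of the elements of a list at the bits of `e`, the first one on the right -/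
def pr : List G → ℕ → G
  | [], _ => 1
  | a :: L, e => pr L (e / 2) * (if e % 2 = 1 then a else 1)

/-- the subgroup generated by a list -/
def cl (L : List G) : Subgroup G := closure {g | g ∈ L}

theorem pr_mem (L : List G) : ∀ e, pr L e ∈ cl L := by
  induction L with
  | nil => intro e; exact one_mem _
  | cons a L ih =>
    intro e
    have h1 : cl L ≤ cl (a :: L) := closure_mono fun g hg => List.mem_cons_of_mem a hg
    refine mul_mem (h1 (ih _)) ?_
    split_ifs
    · exact subset_closure List.mem_cons_self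
    · exact one_mem _

theorem pr_snoc (L : List G) (a : G) : ∀ e, pr (L ++ [a]) e = (if e / 2 ^ L.length % 2 = 1 then a else 1) * pr L e := by
  induction L with
  | nil => intro e; simp [pr]
  | cons b L ih =>
    intro e
    rw [List.cons_append, pr, ih, pr, List.length_cons, pow_succ', Nat.div_div_eq_div_mul, mul_assoc]

theorem pr_mod (L : List G) : ∀ e, pr L (e % 2 ^ L.length) = pr L e := by
  induction L with
  | nil => intro e; rfl
  | cons a L ih =>
    intro e
    rw [pr, pr, List.length_cons, pow_succ']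
    have h1 : e % (2 * 2 ^ L.length) % 2 = e % 2 := Nat.mod_mul_right_mod _ _ _
    have h2 : e % (2 * 2 ^ L.length) / 2 = e / 2 % 2 ^ L.length := Nat.mod_mul_right_div_self _ _ _
    rw [h1, h2, ih]

/-- polycyclic sequences with factors of order dividing 2 -/
inductive Pc : List G → Prop
  | nil : Pc []
  | snoc {L : List G} {a : G} : Pc L → a * a ∈ cl L → (∀ b ∈ L, a * b * a⁻¹ ∈ cl L) → Pc (L ++ [a])

theorem Pc.exists_pr {L : List G} (h : Pc L) : ∀ g ∈ cl L, ∃ e, e < 2 ^ L.length ∧ g = pr L e := by
  suffices H : ∀ g ∈ cl L, ∃ e, g = pr L e by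
    intro g hg
    obtain ⟨e, he⟩ := H g hg
    exact ⟨e % 2 ^ L.length, Nat.mod_lt _ (by positivity), by rw [pr_mod, he]⟩
  induction h with
  | nil =>
    intro g hg
    have h1 : cl ([] : List G) = ⊥ := by
      unfold cl
      rw [closure_eq_bot_iff]
      intro g hg
      exact absurd hg (by simp)
    rw [h1, mem_bot] at hg
    exact ⟨0, hg⟩
  | @snoc L a _ hsq hc ih =>
    have hcon : ∀ g ∈ cl L, a * g * a⁻¹ ∈ cl L := by
      intro g hg
      have h4 : (cl L).map (MulAut.conj a).toMonoidHom ≤ cl L := by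
        unfold cl
        rw [MonoidHom.map_closure, closure_le]
        rintro _ ⟨b, hb, rfl⟩
        exact hc b hb
      exact h4 (mem_map_of_mem _ hg)
    have hcon' : ∀ g ∈ cl L, a⁻¹ * g * a ∈ cl L := by
      intro g hg
      have h1 : a⁻¹ * g * a = (a * a)⁻¹ * (a * g * a⁻¹) * (a * a) := by group
      rw [h1]
      exact mul_mem (mul_mem (inv_mem hsq) (hcon g hg)) hsq
    let K : Subgroup G :=
      { carrier := {g | g ∈ cl L ∨ a⁻¹ * g ∈ cl L}
        mul_mem' := by
          rintro g k (hg | hg) (hk | hk)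
          · exact Or.inl (mul_mem hg hk)
          · right
            have h1 : a⁻¹ * (g * k) = (a⁻¹ * g * a) * (a⁻¹ * k) := by group
            rw [h1]
            exact mul_mem (hcon' g hg) hk
          · right
            have h1 : a⁻¹ * (g * k) = (a⁻¹ * g) * k := by group
            rw [h1]
            exact mul_mem hg hk
          · left
            have h1 : g * k = (a * (a⁻¹ * g) * a⁻¹) * (a * a) * (a⁻¹ * k) := by group
            rw [h1]
            exact mul_mem (mul_mem (hcon _ hg) hsq) hk
        one_mem' := Or.inl (one_mem _)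
        inv_mem' := by
          rintro g (hg | hg)
          · exact Or.inl (inv_mem hg)
          · right
            have h1 : a⁻¹ * g⁻¹ = a⁻¹ * (a⁻¹ * g)⁻¹ * a * (a * a)⁻¹ := by group
            rw [h1]
            exact mul_mem (hcon' _ (inv_mem hg)) (inv_mem hsq) }
    have hK : cl (L ++ [a]) ≤ K := by
      unfold cl
      rw [closure_le]
      intro g hg
      rcases List.mem_append.1 (show g ∈ L ++ [a] from hg) with h1 | h1
      · exact Or.inl (subset_closure h1)
      · rw [List.mem_singleton] at h1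
        right
        rw [h1, inv_mul_cancel]
        exact one_mem _
    intro g hg
    rcases hK hg with h1 | h1
    · obtain ⟨e, he⟩ := ih g h1
      refine ⟨e % 2 ^ L.length, ?_⟩
      rw [pr_snoc, pr_mod, ← he, Nat.div_eq_of_lt (Nat.mod_lt _ (by positivity))]
      simp
    · obtain ⟨e, he⟩ := ih _ h1
      refine ⟨e % 2 ^ L.length + 2 ^ L.length, ?_⟩
      rw [pr_snoc, Nat.add_div_right _ (by positivity), Nat.div_eq_of_lt (Nat.mod_lt _ (by positivity))]
      have h2 : pr L (e % 2 ^ L.length + 2 ^ L.length) = pr L e := by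
        rw [← pr_mod, Nat.add_mod_right, Nat.mod_mod, pr_mod]
      rw [h2, ← he]
      simp

theorem Pc.injOn {L : List G} (h : Pc L) (h1 : ∀ e, e < 2 ^ L.length → pr L e = 1 → e = 0) :
    ∀ e e', e < 2 ^ L.length → e' < 2 ^ L.length → pr L e = pr L e' → e = e' := by
  induction h with
  | nil =>
    intro e e' he he' _
    rw [List.length_nil, pow_zero] at he he'
    omega
  | @snoc L a hL hsq hc ih =>
    have hlen : (L ++ [a]).length = L.length + 1 := by simp
    rw [hlen] at h1 ⊢
    have hpow : 2 ^ (L.length + 1) = 2 * 2 ^ L.length := by rw [pow_succ']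
    have hlow : ∀ e, e < 2 ^ L.length → pr (L ++ [a]) e = pr L e := by
      intro e he
      rw [pr_snoc, Nat.div_eq_of_lt he]
      simp
    have hhigh : ∀ e, e < 2 ^ L.length → pr (L ++ [a]) (e + 2 ^ L.length) = a * pr L e := by
      intro e he
      rw [pr_snoc, Nat.add_div_right _ (by positivity), Nat.div_eq_of_lt he]
      have h2 : pr L (e + 2 ^ L.length) = pr L e := by
        rw [← pr_mod, Nat.add_mod_right, pr_mod]
      rw [h2]
      simp
    have ih' := ih fun e he h2 => h1 e (by omega) (by rw [hlow e he, h2])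
    have hna : a ∉ cl L := by
      intro ha
      obtain ⟨e, he, h2⟩ := hL.exists_pr a⁻¹ (inv_mem ha)
      have h3 := h1 (e + 2 ^ L.length) (by omega) (by rw [hhigh e he, ← h2, mul_inv_cancel])
      have : 0 < 2 ^ L.length := by positivity
      omega
    intro e e' he he' hee
    rcases lt_or_ge e (2 ^ L.length) with h2 | h2 <;> rcases lt_or_ge e' (2 ^ L.length) with h3 | h3
    · rw [hlow e h2, hlow e' h3] at hee
      exact ih' e e' h2 h3 hee
    · obtain ⟨k, rfl⟩ : ∃ k, e' = k + 2 ^ L.length := ⟨e' - 2 ^ L.length, by omega⟩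
      rw [hlow e h2, hhigh k (by omega)] at hee
      exfalso
      apply hna
      have h4 : a = pr L e * (pr L k)⁻¹ := by rw [hee]; group
      rw [h4]
      exact mul_mem (pr_mem L e) (inv_mem (pr_mem L k))
    · obtain ⟨k, rfl⟩ : ∃ k, e = k + 2 ^ L.length := ⟨e - 2 ^ L.length, by omega⟩
      rw [hlow e' h3, hhigh k (by omega)] at hee
      exfalso
      apply hna
      have h4 : a = pr L e' * (pr L k)⁻¹ := by rw [← hee]; group
      rw [h4]
      exact mul_mem (pr_mem L e') (inv_mem (pr_mem L k))
    · obtain ⟨k, rfl⟩ : ∃ k, e = k + 2 ^ L.length := ⟨e - 2 ^ L.length, by omega⟩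
      obtain ⟨k', rfl⟩ : ∃ k, e' = k + 2 ^ L.length := ⟨e' - 2 ^ L.length, by omega⟩
      rw [hhigh k (by omega), hhigh k' (by omega)] at hee
      have := ih' k k' (by omega) (by omega) (mul_left_cancel hee)
      omega

theorem Pc.card {L : List G} (h : Pc L) (h1 : ∀ e, e < 2 ^ L.length → pr L e = 1 → e = 0) :
    Nat.card (cl L) = 2 ^ L.length := by
  let φ : Fin (2 ^ L.length) → cl L := fun e => ⟨pr L e, pr_mem L e⟩
  have hφ : Function.Bijective φ := by
    constructor
    · intro e e' hee
      exact Fin.ext (h.injOn h1 e e' e.2 e'.2 (congrArg Subtype.val hee))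
    · rintro ⟨g, hg⟩
      obtain ⟨e, he, h2⟩ := h.exists_pr g hg
      exact ⟨⟨e, he⟩, Subtype.ext h2.symm⟩
  rw [← Nat.card_congr (Equiv.ofBijective φ hφ), Nat.card_eq_fintype_card, Fintype.card_fin]

/-- a polycyclic 2-group of odd index meeting its conjugate by `x` trivially -/
theorem Pc.meetIn [Finite G] {L : List G} (h : Pc L) {x : G}
    (h1 : ∀ e e', e < 2 ^ L.length → e' < 2 ^ L.length → x * pr L e = pr L e' * x → e = 0)
    (hcard : ¬ 2 ^ (L.length + 1) ∣ Nat.card G) : MeetIn 2 G := by
  have : Fact (Nat.Prime 2) := ⟨Nat.prime_two⟩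
  have hpos : 0 < 2 ^ L.length := by positivity
  have h10 : pr L 0 = 1 := by
    have h2 : ∀ L : List G, pr L 0 = 1 := by
      intro L
      induction L with
      | nil => rfl
      | cons a L ih => rw [pr, Nat.zero_div, ih]; simp
    exact h2 L
  have hc := h.card fun e he h2 => h1 e 0 he hpos (by rw [h2, h10, mul_one, one_mul])
  refine MeetIn.of_one (cl L) (IsPGroup.of_card hc) ?_ ⟨x, ?_⟩
  · rintro ⟨q, hq⟩
    apply hcard
    rw [← (cl L).card_mul_index, hc, hq]
    exact ⟨q, by ring⟩
  · intro y hy hxy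
    obtain ⟨e, he, h2⟩ := h.exists_pr y hy
    obtain ⟨e', he', h3⟩ := h.exists_pr _ hxy
    have h4 := h1 e e' he he' (by rw [← h2, ← h3]; group)
    rw [h2, h4, h10]

end pc

/-! ### Tables -/

/-- the image of `i` under the product coded by `e` -/
def evp (T : List ℕ) : ℕ → ℕ → ℕ :=
  List.rec (fun _ i => i) (fun A _ ih e i => ih (Nat.div e 2) (cond (Nat.beq (Nat.mod e 2) 1) (lk A i) i)) T

theorem evp_cons (A : ℕ) (T : List ℕ) (e i : ℕ) :
    evp (A :: T) e i = evp T (e / 2) (cond (Nat.beq (e % 2) 1) (lk A i) i) := rfl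

/-- `a a = e`, as tables -/
def chkSq (N : ℕ) (T : List ℕ) (A e : ℕ) : Bool := allB (fun i => Nat.beq (lk A (lk A i)) (evp T e i)) N

/-- `a b = e a`, as tables -/
def chkCj (N : ℕ) (T : List ℕ) (A B e : ℕ) : Bool :=
  allB (fun i => Nat.beq (lk A (lk B i)) (evp T e (lk A i))) N

/-- `a b = e a` for all `b` of a list, as tables -/
def chkCjs (N : ℕ) (T : List ℕ) (A : ℕ) : List ℕ → List ℕ → Bool
  | [], _ => true
  | _ :: _, [] => false
  | B :: R, e :: c => band (chkCj N T A B e) (chkCjs N T A R c)

/-- the certificate of a polycyclic sequence -/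
def chkPC (N : ℕ) : List ℕ → List ℕ → List (List ℕ) → Bool
  | _, [], _ => true
  | _, _ :: _, [] => false
  | _, _ :: _, [] :: _ => false
  | T, A :: R, (e :: c) :: cs => band (chkSq N T A e) (band (chkCjs N T A T c) (chkPC N (T ++ [A]) R cs))

/-- hash of the images of three points -/
def hsh (n md p1 p2 p3 : ℕ) (f : ℕ → ℕ) : ℕ :=
  Nat.mod (Nat.add (f p1) (Nat.mul n (Nat.add (f p2) (Nat.mul n (f p3))))) md

def bit (M v : ℕ) : Bool := Nat.beq (Nat.land (Nat.shiftRight M v) 1) 1

/-- a test: three points, a modulus, a mask -/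
structure Test where
  p1 : ℕ
  p2 : ℕ
  p3 : ℕ
  md : ℕ
  M : ℕ

/-- the hashes of `E x` are in the mask -/
def chkV (N : ℕ) (T : List ℕ) (X m : ℕ) (t : Test) : Bool :=
  allB (fun e => bit t.M (hsh N t.md t.p1 t.p2 t.p3 (fun q => evp T e (lk X q)))) m

/-- some hash of `x e` is not in the mask -/
def anyT (N : ℕ) (T : List ℕ) (X e : ℕ) (ts : List Test) : Bool :=
  List.rec false (fun t _ ih => cond (bit t.M (hsh N t.md t.p1 t.p2 t.p3 (fun q => lk X (evp T e q)))) ih true) ts

/-- for `e ≠ 0`, some hash of `x e` is not in the mask -/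
def chkU (N : ℕ) (T : List ℕ) (X m : ℕ) (ts : List Test) : Bool :=
  allB (fun e => cond (Nat.beq e 0) true (anyT N T X e ts)) m

def chkP (N : ℕ) (t : Test) : Bool := band (Nat.blt t.p1 N) (band (Nat.blt t.p2 N) (Nat.blt t.p3 N))

section main

variable {G : Type*} [Group G] {N : ℕ} {f : G → ℕ → ℕ}

theorem f_pr (hone : ∀ i, i < N → f 1 i = i) (hmul : ∀ g h i, i < N → f (g * h) i = f g (f h i))
    (hlt : ∀ g i, i < N → f g i < N) {F : ℕ → G} :
    ∀ T : List ℕ, (∀ A ∈ T, ∀ i, i < N → f (F A) i = lk A i) → ∀ e i, i < N → f (pr (T.map F) e) i = evp T e i := by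
  intro T
  induction T with
  | nil => intro _ e i hi; exact hone i hi
  | cons A T ih =>
    intro hT e i hi
    rw [List.map_cons, pr, hmul _ _ i hi, evp_cons, ih (fun B hB => hT B (List.mem_cons_of_mem _ hB)) _ _ (hlt _ _ hi)]
    congr 1
    by_cases h : e % 2 = 1
    · rw [if_pos h, hT A List.mem_cons_self i hi]
      have : Nat.beq (e % 2) 1 = true := by rw [h]; rfl
      rw [this]
      rfl
    · rw [if_neg h, hone i hi]
      have : Nat.beq (e % 2) 1 = false := by
        have h0 : e % 2 = 0 := by omega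
        rw [h0]; rfl
      rw [this]
      rfl

theorem chkCjs_spec {T : List ℕ} {A : ℕ} : ∀ (R c : List ℕ), chkCjs N T A R c = true →
    ∀ B ∈ R, ∃ e, chkCj N T A B e = true := by
  intro R
  induction R with
  | nil => intro c _ B hB; exact absurd hB (by simp)
  | cons B R ih =>
    intro c hc B' hB'
    match c with
    | [] => exact absurd hc (by simp [chkCjs])
    | e :: c =>
      rw [chkCjs, band_eq_true] at hc
      rcases List.mem_cons.1 hB' with rfl | h
      · exact ⟨e, hc.1⟩
      · exact ih c hc.2 B' h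

theorem pc_of_chk (hone : ∀ i, i < N → f 1 i = i) (hmul : ∀ g h i, i < N → f (g * h) i = f g (f h i))
    (hlt : ∀ g i, i < N → f g i < N) (hinj : ∀ g h, (∀ i, i < N → f g i = f h i) → g = h) {F : ℕ → G} :
    ∀ (R T : List ℕ) (cs : List (List ℕ)), (∀ A ∈ T ++ R, ∀ i, i < N → f (F A) i = lk A i) → Pc (T.map F) →
      chkPC N T R cs = true → Pc ((T ++ R).map F) := by
  intro R
  induction R with
  | nil => intro T cs _ h _; rwa [List.append_nil]
  | cons A R ih =>
    intro T cs hT h hc
    match cs with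
    | [] => exact absurd hc (by simp [chkPC])
    | [] :: cs => exact absurd hc (by simp [chkPC])
    | (e :: c) :: cs =>
      rw [chkPC, band_eq_true, band_eq_true] at hc
      obtain ⟨h1, h2, h3⟩ := hc
      have hTT : ∀ B ∈ T, ∀ i, i < N → f (F B) i = lk B i := fun B hB => hT B (List.mem_append_left _ hB)
      have hA : ∀ i, i < N → f (F A) i = lk A i := hT A (List.mem_append_right _ List.mem_cons_self)
      have h4 := ih (T ++ [A]) cs (by
        intro B hB
        apply hT
        rw [List.append_assoc] at hB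
        exact hB) (by
        rw [List.map_append, List.map_cons, List.map_nil]
        refine Pc.snoc h ?_ ?_
        · have h5 : F A * F A = pr (T.map F) e := by
            apply hinj
            intro i hi
            have h6 := (allB_iff _ _).1 h1 i hi
            rw [hmul _ _ i hi, f_pr hone hmul hlt T hTT e i hi, hA i hi, hA _ (by rw [← hA i hi]; exact hlt _ _ hi)]
            exact Nat.eq_of_beq_eq_true h6
          rw [h5]
          exact pr_mem _ _
        · intro b hb
          obtain ⟨B, hB, rfl⟩ := List.mem_map.1 hb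
          obtain ⟨e', he'⟩ := chkCjs_spec T c h2 B hB
          have h5 : F A * F B = pr (T.map F) e' * F A := by
            apply hinj
            intro i hi
            have h6 := (allB_iff _ _).1 he' i hi
            rw [hmul _ _ i hi, hmul _ _ i hi, hTT B hB i hi, hA i hi,
              f_pr hone hmul hlt T hTT e' _ (by rw [← hA i hi]; exact hlt _ _ hi),
              hA _ (by rw [← hTT B hB i hi]; exact hlt _ _ hi)]
            exact Nat.eq_of_beq_eq_true h6
          rw [h5, mul_inv_cancel_right]
          exact pr_mem _ _) h3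
      rw [List.append_assoc] at h4
      exact h4

theorem anyT_spec {T : List ℕ} {X e : ℕ} : ∀ ts : List Test, anyT N T X e ts = true →
    ∃ t ∈ ts, bit t.M (hsh N t.md t.p1 t.p2 t.p3 (fun q => lk X (evp T e q))) = false := by
  intro ts
  induction ts with
  | nil => intro h; exact absurd h (by simp [anyT])
  | cons t ts ih =>
    intro h
    by_cases hb : bit t.M (hsh N t.md t.p1 t.p2 t.p3 (fun q => lk X (evp T e q))) = true
    · have h1 : anyT N T X e ts = true := by
        have h2 : anyT N T X e (t :: ts) =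
          cond (bit t.M (hsh N t.md t.p1 t.p2 t.p3 (fun q => lk X (evp T e q)))) (anyT N T X e ts) true := rfl
        rw [h2, hb] at h
        exact h
      obtain ⟨t', ht', h3⟩ := ih h1
      exact ⟨t', List.mem_cons_of_mem _ ht', h3⟩
    · exact ⟨t, List.mem_cons_self, by simpa using hb⟩

/-- **The criterion.** -/
theorem meetIn_of_tab [Finite G] (hone : ∀ i, i < N → f 1 i = i)
    (hmul : ∀ g h i, i < N → f (g * h) i = f g (f h i))
    (hlt : ∀ g i, i < N → f g i < N) (hinj : ∀ g h, (∀ i, i < N → f g i = f h i) → g = h)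
    (T : List ℕ) (hT : ∀ A ∈ T, ∃ g : G, ∀ i, i < N → f g i = lk A i) (X : ℕ)
    (hX : ∃ g : G, ∀ i, i < N → f g i = lk X i) (m : ℕ) (hm : Nat.beq m (2 ^ T.length) = true)
    (cs : List (List ℕ)) (ts : List Test)
    (hpc : chkPC N [] T cs = true) (hp : ts.all (chkP N) = true) (hV : ts.all (chkV N T X m) = true)
    (hU : chkU N T X m ts = true) (hcard : ¬ 2 ^ (T.length + 1) ∣ Nat.card G) : MeetIn 2 G := by
  classical
  let F : ℕ → G := fun A => if h : ∃ g : G, ∀ i, i < N → f g i = lk A i then h.choose else 1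
  have hF : ∀ A ∈ T, ∀ i, i < N → f (F A) i = lk A i := by
    intro A hA
    have h := hT A hA
    simp only [F]
    rw [dif_pos h]
    exact h.choose_spec
  obtain ⟨x, hx⟩ := hX
  have hm' := Nat.eq_of_beq_eq_true hm
  have h1 : Pc (([] ++ T).map F) := pc_of_chk hone hmul hlt hinj T [] cs (by simpa using hF) Pc.nil hpc
  rw [List.nil_append] at h1
  refine h1.meetIn (x := x) ?_ (by rw [List.length_map]; exact hcard)
  rw [List.length_map, ← hm']
  intro e e' he he' h
  by_contra he0
  have h2 := (allB_iff _ _).1 hU e he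
  have h3 : Nat.beq e 0 = false := by
    rw [Bool.eq_false_iff]
    intro h4
    exact he0 (Nat.eq_of_beq_eq_true h4)
  rw [h3] at h2
  obtain ⟨t, ht, hb⟩ := anyT_spec ts h2
  have h4 := (allB_iff _ _).1 (List.all_eq_true.1 hV t ht) e' he'
  have h5 := List.all_eq_true.1 hp t ht
  unfold chkP at h5
  rw [band_eq_true, band_eq_true, Nat.blt_eq, Nat.blt_eq, Nat.blt_eq] at h5
  have h6 : ∀ q, q < N → lk X (evp T e q) = evp T e' (lk X q) := by
    intro q hq
    have h7 : f (x * pr (T.map F) e) q = f (pr (T.map F) e' * x) q := by rw [h]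
    rw [hmul _ _ q hq, hmul _ _ q hq, f_pr hone hmul hlt T hF e q hq, hx q hq,
      hx _ (by rw [← f_pr hone hmul hlt T hF e q hq]; exact hlt _ _ hq),
      f_pr hone hmul hlt T hF e' _ (by rw [← hx q hq]; exact hlt _ _ hq)] at h7
    exact h7
  have h8 : hsh N t.md t.p1 t.p2 t.p3 (fun q => lk X (evp T e q)) =
      hsh N t.md t.p1 t.p2 t.p3 (fun q => evp T e' (lk X q)) := by
    unfold hsh
    simp only [h6 t.p1 h5.1, h6 t.p2 h5.2.1, h6 t.p3 h5.2.2]
  rw [h8, h4] at hb
  exact absurd hb (by simp)

end main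

open Equiv in
/-- the criterion for permutation groups -/
theorem meetIn_perm {N : ℕ} {Q : Subgroup (Perm (Fin N))} (T : List ℕ) (hT : ∀ A ∈ T, InG Q A) (X : ℕ)
    (hX : InG Q X) (m : ℕ) (hm : Nat.beq m (2 ^ T.length) = true)
    (cs : List (List ℕ)) (ts : List Test)
    (hpc : chkPC N [] T cs = true) (hp : ts.all (chkP N) = true) (hV : ts.all (chkV N T X m) = true)
    (hU : chkU N T X m ts = true) (hcard : ¬ 2 ^ (T.length + 1) ∣ Nat.card Q) : MeetIn 2 Q := by
  let f : Q → ℕ → ℕ := fun g i => if h : i < N then ((g : Perm (Fin N)) ⟨i, h⟩ : ℕ) else i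
  have hf : ∀ (g : Q) (i : ℕ) (h : i < N), f g i = ((g : Perm (Fin N)) ⟨i, h⟩ : ℕ) := by
    intro g i h
    simp only [f]
    rw [dif_pos h]
  have hin : ∀ A, InG Q A → ∃ g : Q, ∀ i, i < N → f g i = lk A i := by
    rintro A ⟨g, hg, h⟩
    refine ⟨⟨g, hg⟩, fun i hi => ?_⟩
    rw [hf _ _ hi]
    exact h ⟨i, hi⟩
  refine meetIn_of_tab (f := f) (N := N) ?_ ?_ ?_ ?_ T (fun A hA => hin A (hT A hA)) X (hin X hX) m hm cs ts hpc hp hV
    hU hcard
  · intro i hi
    rw [hf _ _ hi]
    rfl
  · intro g h i hi
    rw [hf _ _ hi, hf h _ hi, hf g _ (Fin.is_lt _)]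
    rfl
  · intro g i hi
    rw [hf _ _ hi]
    exact Fin.is_lt _
  · intro g h hgh
    apply Subtype.ext
    ext i
    have := hgh i i.2
    rw [hf _ _ i.2, hf _ _ i.2] at this
    exact this

/-! ### Straight-line programs -/

/-- every entry of the program is a word in the tables known before -/
def chkSLP (n : ℕ) : List ℕ → List (ℕ × List ℕ) → Bool
  | _, [] => true
  | K, (S, L) :: R => band (L.all fun P => K.any fun P' => Nat.beq P P') (band (chkWord n S L) (chkSLP n (S :: K) R))

theorem inG_slp {n : ℕ} {G : Subgroup (Equiv.Perm (Fin n))} : ∀ (R : List (ℕ × List ℕ)) (K : List ℕ),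
    (∀ P ∈ K, InG G P) → chkSLP n K R = true → ∀ A, A ∈ K ∨ A ∈ R.map Prod.fst → InG G A := by
  intro R
  induction R with
  | nil =>
    intro K hK _ A hA
    rcases hA with h | h
    · exact hK A h
    · exact absurd h (by simp)
  | cons SL R ih =>
    obtain ⟨S, L⟩ := SL
    intro K hK h A hA
    rw [chkSLP, band_eq_true, band_eq_true] at h
    obtain ⟨h1, h2, h3⟩ := h
    have hS : InG G S := by
      refine InG.word (fun P hP => ?_) h2
      obtain ⟨P', hP', h4⟩ := List.any_eq_true.1 (List.all_eq_true.1 h1 P hP)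
      rw [Nat.eq_of_beq_eq_true h4]
      exact hK P' hP'
    refine ih (S :: K) ?_ h3 A ?_
    · intro P hP
      rcases List.mem_cons.1 hP with rfl | h4
      · exact hS
      · exact hK P h4
    · rcases hA with h4 | h4
      · exact Or.inl (List.mem_cons_of_mem _ h4)
      · rw [List.map_cons] at h4
        rcases List.mem_cons.1 h4 with rfl | h5
        · exact Or.inl List.mem_cons_self
        · exact Or.inr h5

/-- all tables of `T` are known -/
def chkSub (T K : List ℕ) (R : List (ℕ × List ℕ)) : Bool :=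
  T.all fun A => (K.any fun P => Nat.beq A P) || (R.any fun P => Nat.beq A P.1)

theorem inG_sub {n : ℕ} {G : Subgroup (Equiv.Perm (Fin n))} {R : List (ℕ × List ℕ)} {K T : List ℕ}
    (hK : ∀ P ∈ K, InG G P) (h : chkSLP n K R = true) (hT : chkSub T K R = true) : ∀ A ∈ T, InG G A := by
  intro A hA
  have h1 := List.all_eq_true.1 hT A hA
  rw [Bool.or_eq_true] at h1
  rcases h1 with h1 | h1
  · obtain ⟨P, hP, h2⟩ := List.any_eq_true.1 h1
    rw [Nat.eq_of_beq_eq_true h2]
    exact hK P hP
  · obtain ⟨P, hP, h2⟩ := List.any_eq_true.1 h1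
    rw [Nat.eq_of_beq_eq_true h2]
    exact inG_slp R K hK h _ (Or.inr (List.mem_map.2 ⟨P, hP, rfl⟩))

end Cfsg.Agent.H265.MeetT

private theorem dce_84988ad56e7f : _root_.True := by
  try have : _root_.True := by simp only [_root_.Cfsg.Agent.H265.MeetT.chkPC.eq_4]
  try have : _root_.True := by simp only [_root_.Cfsg.Agent.H265.MeetT.chkSLP.eq_2]
  try have : _root_.True := by simp only [_root_.Cfsg.Agent.H265.MeetT.chkSLP.eq_def]
  try have : _root_.True := by simp only [_root_.Cfsg.Agent.H265.MeetT.anyT.eq_1]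
  try have : _root_.True := by simp only [_root_.Cfsg.Agent.H265.MeetT.chkPC.eq_2]
  try have : _root_.True := by simp only [_root_.Cfsg.Agent.H265.MeetT.chkCjs.eq_2]
  try have : _root_.True := by simp only [_root_.Cfsg.Agent.H265.MeetT.chkPC.eq_3]
  try have : _root_.True := by simp only [_root_.Cfsg.Agent.H265.MeetT.chkPC.eq_def]
  try have : _root_.True := by simp only [_root_.Cfsg.Agent.H265.MeetT.chkSLP.eq_1]
  try have : _root_.True := by simp only [_root_.Cfsg.Agent.H265.MeetT.pr.eq_def]
  try have : _root_.True := by simp only [_root_.Cfsg.Agent.H265.MeetT.chkCjs.eq_1]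
  try have : _root_.True := by simp only [_root_.Cfsg.Agent.H265.MeetT.chkPC.eq_1]
  try have : _root_.True := by simp only [_root_.Cfsg.Agent.H265.MeetT.chkCjs.eq_3]
  try have : _root_.True := by simp only [_root_.Cfsg.Agent.H265.MeetT.pr.eq_2]
  try have : _root_.True := by simp only [_root_.Cfsg.Agent.H265.MeetT.chkCjs.eq_def]
  try have : _root_.True := by simp only [_root_.Cfsg.Agent.H265.MeetT.pr.eq_1]
  exact _root_.True.intro
end

-- part: H935/Meet/CoTwo
section
set_option linter.all false
open scoped Cfsg.Agent.FastGrp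

-- part: H935/Meet/Core
section
/-!
# Trivial intersections of Sylow 2-subgroups: the core lemma (helper903, helper935)

* `of_core` : `H` of odd index, `π : H → K` onto, `MeetIn 2 K`, some conjugate of `ker π` meets `H` trivially.
-/

set_option autoImplicit false

namespace Cfsg.Agent.H935.Meet

open Subgroup Cfsg.Agent.H68.MeetB

variable {T : Type*} [Group T]

/-- **The core lemma.** -/
theorem of_core [Finite T] {H : Subgroup T} (hi : ¬ 2 ∣ H.index) {K : Type*} [Group K] (π : ↥H →* K)
    (hπ : Function.Surjective π) (hK : MeetIn 2 K) (g : T)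
    (hg : ∀ y : ↥H, π y = 1 → g * (y : T) * g⁻¹ ∈ H → y = 1) : MeetIn 2 T := by
  have hp : Fact (Nat.Prime 2) := ⟨Nat.prime_two⟩
  obtain ⟨S⟩ : Nonempty (Sylow 2 ↥H) := inferInstance
  let P : Subgroup T := (S : Subgroup ↥H).map H.subtype
  have hP : IsPGroup 2 P := S.isPGroup'.map _
  have hPH : P ≤ H := by
    rintro _ ⟨s, -, rfl⟩
    exact s.2
  have hPi : ¬ 2 ∣ P.index := by
    have h1 : P.index = (S : Subgroup ↥H).index * H.index := by
      rw [Subgroup.index_map, (MonoidHom.ker_eq_bot_iff _).2 H.subtype_injective, sup_bot_eq, Subgroup.range_subtype]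
    rw [h1]
    intro h
    rcases Nat.prime_two.dvd_mul.1 h with h | h
    · exact S.not_dvd_index h
    · exact hi h
  -- the elements of `H` conjugated into `P` by `g`
  let D : Subgroup ↥H := (P.comap (MulAut.conj g).toMonoidHom).subgroupOf H
  have hDmem : ∀ y : ↥H, y ∈ D ↔ g * (y : T) * g⁻¹ ∈ P := fun y => Iff.rfl
  have hD : IsPGroup 2 D :=
    (hP.comap_of_injective _ (MulAut.conj g).injective).comap_of_injective _ H.subtype_injective
  obtain ⟨S0, hS0⟩ := hD.exists_le_sylow
  obtain ⟨c, hc⟩ := MulAction.exists_smul_eq ↥H S S0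
  obtain ⟨k, hk⟩ := hK ((S0 : Subgroup ↥H).map π) (S0.isPGroup'.map π)
  obtain ⟨h, rfl⟩ := hπ k
  have hcS : ∀ s ∈ (S : Subgroup ↥H), c * s * c⁻¹ ∈ (S0 : Subgroup ↥H) := by
    intro s hs
    rw [← hc, Sylow.smul_def]
    exact (mem_smul_pointwise_iff_exists _ _ _).2 ⟨s, hs, rfl⟩
  refine MeetIn.of_one P hP hPi ⟨g * (h : T)⁻¹ * (c : T), fun y hy hxy => ?_⟩
  obtain ⟨s, hs, rfl⟩ := hy
  change g * (h : T)⁻¹ * (c : T) * (s : T) * (g * (h : T)⁻¹ * (c : T))⁻¹ ∈ P at hxy
  -- `w = h⁻¹ c s c⁻¹ h`
  set w : ↥H := h⁻¹ * (c * s * c⁻¹) * h with hw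
  have h1 : w ∈ D := by
    rw [hDmem]
    have h2 : g * (w : T) * g⁻¹ = g * (h : T)⁻¹ * (c : T) * (s : T) * (g * (h : T)⁻¹ * (c : T))⁻¹ := by
      rw [hw]
      push_cast
      group
    rw [h2]
    exact hxy
  have h2 : π w = 1 := by
    refine hk (π w) ⟨w, hS0 h1, rfl⟩ ⟨c * s * c⁻¹, hcS s hs, ?_⟩
    rw [hw]
    simp only [map_mul, map_inv]
    group
  have h3 : w = 1 := hg w h2 (hPH ((hDmem w).1 h1))
  have h4 : s = 1 := by
    have h5 : s = c⁻¹ * (h * w * h⁻¹) * c := by rw [hw]; group
    rw [h5, h3]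
    group
  rw [h4]
  exact map_one _

end Cfsg.Agent.H935.Meet
end

-- part: H265/Meet/Mathieu
section
/-!
# Trivial intersections of Sylow 2-subgroups: the Mathieu groups (helper265)
-/

set_option autoImplicit false

namespace Cfsg.Agent.H265.MeetM

open Cfsg Cfsg.Agent.SporadicA.GolayBase Cfsg.Agent.SporadicA.GolayPerm Cfsg.Agent.SporadicStructure.M24El
  Cfsg.Agent.SporadicA.PermTab Cfsg.Agent.H265.MeetT Cfsg.Agent.H68.MeetB
open scoped Pointwise

/-- tables of a Sylow 2-subgroup of M11 -/
def T11 : List ℕ := [0x260580281402e0200881000e0280600d0160380101201e0180a80400202401800,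
  0xa0440b80b02a0040b01001403c0100902801c0680301c0180980402403004000,
  0x260440a81402e0480b00601401c0100901603c0600801c0400280400203401800,
  0x140500781101c0300580602e0540180102c0140400d0260400380400404804800]

def P11 : List ℕ := [0x9d8b4ba2303a98d5b85279aa40a460,
  0x2c6eba86d053c49a1da371a6493100,
  0x9c6b4bcac651c495bd88740a40b460,
  0x551f173166bd461b150d9c0e414920]

def x11 : ℕ := 0x2e014058130220240a00402c0380681000e0280100102a0180780c01004801800

def y11 : ℕ := 0xb95738a684b39b03a841a99ec44860

def c11 : List (List ℕ) := [[0], [1, 1], [0, 1, 3], [2, 1, 2, 6]]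

def t11 : List Test := [
  ⟨11, 18, 6, 211, 0x48000110882000800020002000101000000000080002800000⟩]

/-- tables of a Sylow 2-subgroup of M12 -/
def T12 : List ℕ := [0x2e05803813028048058010140380000302203c0300802a024028040180080800d,
  0x2e058078110160200980000e03808009028054018120140300280200c01006801,
  0x2c05c0a8130280200581001e014068030220280301200e0240700201801000800,
  0x2e0580a00f0140080380c0220140300002a02c008040260400701201a02001809,
  0xa0380380b0220100a01001405c0680902603c0180202a0300b00800c04800800,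
  0xa0380a813028010088100140580000301603c0480200e0180b8120180200080d]

def P12 : List ℕ := [0xbd8f3a4961538038bcc8aa4a460a0d,
  0xbd9f15a2603ba09a5472530a2311a1,
  0xb5eb3a2170795a38a8d23a5c261020,
  0xbda8f508ec894c0aac249c1d26a069,
  0x2b8eb8929055da99bc62ab2c834820,
  0x2bab3a1230558035bd2239af26202d]

def x12 : ℕ := 0x1e0280a8070280000700102c0440480801604c0100400a0480b81001a00c0300c

def y12 : ℕ := 0x7aaa7a01c1b45285cc442caf068ccc

def c12 : List (List ℕ) := [[0], [1, 1], [0, 1, 2], [2, 1, 2, 5], [4, 1, 2, 4, 14], [0, 1, 3, 4, 13, 20]]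

def t12 : List Test := [
  ⟨13, 10, 19, 503, 0x400000000000000000000120000000000090000200040000000000000000000000000002012001000000000000000000000010002000000000000000400300⟩,
  ⟨21, 0, 17, 503, 0x342000820004008000241202420b02010000001008c03804000000000002033380000000280002c90004a02000201000101080812000804808000a08200000⟩]

/-- tables of a Sylow 2-subgroup of M22 -/
def T22 : List ℕ := [0x2e0580101401e0040880702602c0680a01c030048040200140300800605409000,
  0x2e0580601402404c08805002010068150100080480b00c01c0800e00602807800,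
  0x2e0580581400e0180880f0200080680802a0100480c0260480080a00603802800,
  0x2e058078140040280880b02a01c068010200480480501c0100400600604c06000,
  0x2e0500581600a0400880100c054068080040100180a02404c0780c01203803800,
  0x2e024030030040300680802a03c0881002601c0a00100802c0701202c01405000,
  0x2e0580a81400e0140680f0200380880a016030018040260040900801200803000]

def P22 : List ℕ := [0xbd854786279adaa73124814c81d640,
  0xbd99494e25091b54092b31e0e1a9e0,
  0xbd97439a2f809a8a912c9c82a1b8a0,
  0xbd9f412a2ba9da184925711061cd80,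
  0xbd1762c221355a81106a94dec4b8e0,
  0xba4c3131a8abe3099e8122dd2b1540,
  0xbdab4395af83a2a5b06498648488c0]

def x22 : ℕ := 0x2e028098150180480281101a020018090160180a0160040380081000e03c02000

def y22 : ℕ := 0xbaa75648b16a06959a96138303bc80

def c22 : List (List ℕ) := [[0], [0, 1], [0, 1, 2], [0, 1, 2, 4], [1, 1, 2, 5, 11], [16, 1, 3, 6, 15, 16], [0, 1, 3, 4, 12, 16, 50]]

def t22 : List Test := [
  ⟨8, 16, 15, 1009, 0xa004100000000000000000000000000000000000000000000000000000000000000000000000000000000000000000000000000000000000000000000000000000000000000000000000000000000000000000000000000000000000000000000000000000001400820000⟩,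
  ⟨21, 0, 17, 1009, 0x16a0000000000000000000000000000032164f800000000000000000000000000000002488000000000000000000000000000000301e0e000000000000000000000000000000190004000000000000000000000000000000885513800000000000000000000000000000026c801000000000000000000000000000000e814⟩]

/-- tables of a Sylow 2-subgroup of M24 -/
def T24 : List ℕ := [0x160380a81402000c088130180580080f02e010048070100180280a02400806800,
  0x140400a81401c0200881600204c0600d00805c048120060180280b00e00807800,
  0x160380a0150200480481301e0580680c02e0100880800e0140300a00600000802,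
  0x260100a01502e03c0480b024028038030200380880101a0140301601800004002,
  0x140400481101c0480a01601e04c0680c00805c0a80800e0000100b00601400806,
  0x80400481101c0200a01601a04c0780101402c0a8120060080001700e01806005,
  0x18020048110060400a01201601c0501701e0340a81601c0080000102601802005,
  0x260100280602e0480000b01e0280680c0200380100800e0500a81600602400811,
  0x2e0400880901c0200a81601e04c0680c0160280a0120060140300400e00000802,
  0x260280280602e03c0100b024010040030200580000d0020500a80e01804403809]

def P24 : List ℕ := [0x5bab480e336582fb9127418aa909a0,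
  0x542b4722360cd8d25d32198ab389e0,
  0x5ba95849337d9acb9228394ca18022,
  0x99295bbd2b928e383a21694d660102,
  0x5413174a967cdac25ea83804b19426,
  0x24131722966cde152eb21881739985,
  0x621311c29259d577b6b67080199885,
  0x990a6bc80b7a9ac838483d2b61a431,
  0xbc229722b67cdac5aa92194c438022,
  0x9a8a6bbc4b911038580d0d2ae644e9]

def x24 : ℕ := 0x30018140040540780e00a02c0800d00e0180080801404c048110080580b812

def y24 : ℕ := 0x3074155ee2ae0d3982854d3125af2

def c24 : List (List ℕ) := [[0], [0, 1], [0, 1, 2], [0, 1, 2, 4], [0, 1, 2, 4, 8], [0, 1, 2, 4, 9, 16], [0, 1, 2, 5, 8, 18, 32], [0, 1, 2, 4, 8, 16, 36, 72], [0, 1, 2, 4, 10, 16, 32, 64, 144], [0, 1, 3, 4, 8, 20, 32, 64, 128, 288]]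

def t24 : List Test := [
  ⟨8, 17, 22, 4099, 0x803100000000000000000000000000000000000000000000000000000000803100000200304000000000000000000000000000000000000000000000000000000000000000000000000000000009280000000000000000000000000000000000000000000000000000000000494000000000000000000000000000000000000000000000000000000000000000000000000002c0080000000000000000b0020000000000000000000000000000000000000000000000000000000000000000000000000000000000000000000000092800000000000000000000000000000000000000000000000000000000000000000002003040000000000000000000000000000000000000000000000000000000000024a0000000000000000000000000000000000000000000000000000000000000000000000000000000040188000000000000000000000000000000000010066006080000160040000000000000000000000000000000000000000000000000000000000000000200304000000000000000000000000000000000000000000000000000000000000000160040000000000000000000000000000000⟩,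
  ⟨21, 0, 17, 4099, 0xa0000000000000000000000000000000000000000000000000000000000001000000000000000000000000000000000000000000000000000000000010000020000000000000000000008000000000000000000000000000000000000000002000000000000001000000000000000000000000000000000000000000000000000002000010000060000000000000000000008000000000001040000000000000000900000000000000002800000000004000010000000000080000000000004000000000000008020000000000000000000000000000000000000000000000000000000000000000008800000000000000002000000010000000010000020080080000000000000000000000000000000000000000000000000000000000000020000000000000000000000000000000000000000000002000000000000000000000200000000000000000800000000000000004000000000022000000000040000000000000000000000000000000001000000000000000000000000000080000000000000000040000000000000220000000000000401000000000800001000000000000000000000440000200000c0000000000000000040010000000000002000000000000200000000000000000000000000000020000000000000040100000000000000000000200000000004000000000000000000000000000⟩]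

/-- `P` and `A` are the same table -/
def cv (A P : ℕ) : Bool := allB (fun i => Nat.beq (papp P i) (lk A i)) 24

/-- every table of `T` is one of the tables of `Ps` satisfying `chk` -/
def chkT (chk : ℕ → Bool) (Ps T : List ℕ) : Bool := T.all fun A => Ps.any fun P => cv A P && chk P

section

variable {K : Subgroup (Equiv.Perm GolayPt)}

/-- the action on numbers -/
def act (g : K) (i : ℕ) : ℕ := idx ((g : Equiv.Perm GolayPt) (pt i))

theorem exists_of_cv {chk : ℕ → Bool} (h : ∀ P, chk P = true → ∃ hP : isPerm P = true, permOf P hP ∈ K) {A P : ℕ}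
    (h1 : cv A P = true) (h2 : chk P = true) : ∃ g : K, ∀ i, i < 24 → act g i = lk A i := by
  obtain ⟨hP, hK⟩ := h P h2
  refine ⟨⟨permOf P hP, hK⟩, fun i hi => ?_⟩
  have h3 := Nat.eq_of_beq_eq_true ((allB_iff _ _).1 h1 i hi)
  rw [← h3]
  change idx (permOf P hP (pt i)) = _
  rw [idx_permOf, idx_pt hi]

theorem meetIn_golay {chk : ℕ → Bool} (h : ∀ P, chk P = true → ∃ hP : isPerm P = true, permOf P hP ∈ K)
    (Ps T : List ℕ) (X Y : ℕ) (hT : chkT chk Ps T = true) (hX : chkT chk [Y] [X] = true)
    (m : ℕ) (hm : Nat.beq m (2 ^ T.length) = true) (cs : List (List ℕ)) (ts : List Test)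
    (hpc : chkPC 24 [] T cs = true) (hp : ts.all (chkP 24) = true) (hV : ts.all (chkV 24 T X m) = true)
    (hU : chkU 24 T X m ts = true) (hcard : ¬ 2 ^ (T.length + 1) ∣ Nat.card K) : MeetIn 2 K := by
  have hex : ∀ Ps T : List ℕ, chkT chk Ps T = true → ∀ A ∈ T, ∃ g : K, ∀ i, i < 24 → act g i = lk A i := by
    intro Ps T hT A hA
    obtain ⟨P, -, hP⟩ := List.any_eq_true.1 (List.all_eq_true.1 hT A hA)
    rw [Bool.and_eq_true] at hP
    exact exists_of_cv h hP.1 hP.2
  refine meetIn_of_tab (f := act) (N := 24) ?_ ?_ ?_ ?_ T (hex Ps T hT) X (hex [Y] [X] hX X (by simp)) m hm cs ts hpc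
    hp hV hU hcard
  · intro i hi
    exact idx_pt hi
  · intro g k i _
    unfold act
    rw [pt_idx]
    rfl
  · intro g i _
    exact idx_lt _
  · intro g k hgk
    apply Subtype.ext
    apply Equiv.ext
    intro p
    apply idx_injective
    have := hgk (idx p) (idx_lt p)
    unfold act at this
    rwa [pt_idx] at this

end

theorem sq_eq : Spor.squareDodecad = fin 340831 := by
  apply Finset.ext
  decide +kernel

def chk24 (P : ℕ) : Bool := ok P
def chk23 (P : ℕ) : Bool := ok P && Nat.beq (papp P 23) 23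
def chk22 (P : ℕ) : Bool := chk23 P && Nat.beq (papp P 0) 0
def chk12 (P : ℕ) : Bool := ok P && Nat.beq (pimg P 340831) 340831
def chk11 (P : ℕ) : Bool := chk12 P && Nat.beq (papp P 0) 0

theorem of_chk24 (P : ℕ) (h : chk24 P = true) : ∃ hP : isPerm P = true, permOf P hP ∈ M24 :=
  ⟨(ok_iff.1 h).1, permOf_mem_M24 _ (ok_iff.1 h).2⟩

theorem of_chk23 (P : ℕ) (h : chk23 P = true) : ∃ hP : isPerm P = true, permOf P hP ∈ Spor.M23 := by
  rw [chk23, Bool.and_eq_true] at h
  obtain ⟨hP, h1⟩ := of_chk24 P h.1
  refine ⟨hP, h1, ?_⟩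
  change permOf P hP none = none
  apply idx_injective
  rw [idx_permOf]
  exact Nat.eq_of_beq_eq_true h.2

theorem of_chk22 (P : ℕ) (h : chk22 P = true) : ∃ hP : isPerm P = true, permOf P hP ∈ Spor.M22 := by
  rw [chk22, Bool.and_eq_true] at h
  obtain ⟨hP, h1⟩ := of_chk23 P h.1
  refine ⟨hP, h1, ?_⟩
  change permOf P hP (some 0) = some 0
  apply idx_injective
  rw [idx_permOf]
  exact Nat.eq_of_beq_eq_true h.2

theorem of_chk12 (P : ℕ) (h : chk12 P = true) : ∃ hP : isPerm P = true, permOf P hP ∈ Spor.M12 := by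
  rw [chk12, Bool.and_eq_true] at h
  obtain ⟨hP, h1⟩ := of_chk24 P h.1
  refine ⟨hP, h1, ?_⟩
  change permOf P hP • Spor.squareDodecad = Spor.squareDodecad
  rw [sq_eq, smul_fin, Nat.eq_of_beq_eq_true h.2]

theorem of_chk11 (P : ℕ) (h : chk11 P = true) : ∃ hP : isPerm P = true, permOf P hP ∈ Spor.M11 := by
  rw [chk11, Bool.and_eq_true] at h
  obtain ⟨hP, h1⟩ := of_chk12 P h.1
  refine ⟨hP, h1, ?_⟩
  change permOf P hP (some 0) = some 0
  apply idx_injective
  rw [idx_permOf]
  exact Nat.eq_of_beq_eq_true h.2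


theorem meetIn_M11 : MeetIn 2 Spor.M11 :=
  meetIn_golay of_chk11 P11 T11 x11 y11 (by decide +kernel) (by decide +kernel) 16 (by decide +kernel) c11 t11
    (by decide +kernel) (by decide +kernel) (by decide +kernel) (by decide +kernel)
    (by rw [NotCT.Orders.m11 ⟨MulEquiv.refl _⟩]; decide +kernel)

theorem meet2_M11 {G : Type*} [Group G] [Finite G] [IsSimpleGroup G] (h : Spor.IsoM11 G) : MeetIn 2 G := by
  obtain ⟨e⟩ := h
  exact meetIn_M11.congr e.symm

theorem meetIn_M12 : MeetIn 2 Spor.M12 :=
  meetIn_golay of_chk12 P12 T12 x12 y12 (by decide +kernel) (by decide +kernel) 64 (by decide +kernel) c12 t12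
    (by decide +kernel) (by decide +kernel) (by decide +kernel) (by decide +kernel)
    (by rw [NotCT.Orders.m12 ⟨MulEquiv.refl _⟩]; decide +kernel)

theorem meet2_M12 {G : Type*} [Group G] [Finite G] [IsSimpleGroup G] (h : Spor.IsoM12 G) : MeetIn 2 G := by
  obtain ⟨e⟩ := h
  exact meetIn_M12.congr e.symm

theorem meetIn_M22 : MeetIn 2 Spor.M22 :=
  meetIn_golay of_chk22 P22 T22 x22 y22 (by decide +kernel) (by decide +kernel) 128 (by decide +kernel) c22 t22
    (by decide +kernel) (by decide +kernel) (by decide +kernel) (by decide +kernel)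
    (by rw [NotCT.Orders.m22 ⟨MulEquiv.refl _⟩]; decide +kernel)

theorem meet2_M22 {G : Type*} [Group G] [Finite G] [IsSimpleGroup G] (h : Spor.IsoM22 G) : MeetIn 2 G := by
  obtain ⟨e⟩ := h
  exact meetIn_M22.congr e.symm

theorem meetIn_M23 : MeetIn 2 Spor.M23 :=
  meetIn_golay of_chk23 P22 T22 x22 y22 (by decide +kernel) (by decide +kernel) 128 (by decide +kernel) c22 t22
    (by decide +kernel) (by decide +kernel) (by decide +kernel) (by decide +kernel)
    (by rw [NotCT.Orders.m23 ⟨MulEquiv.refl _⟩]; decide +kernel)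

theorem meet2_M23 {G : Type*} [Group G] [Finite G] [IsSimpleGroup G] (h : Spor.IsoM23 G) : MeetIn 2 G := by
  obtain ⟨e⟩ := h
  exact meetIn_M23.congr e.symm

theorem meetIn_M24 : MeetIn 2 M24 :=
  meetIn_golay of_chk24 P24 T24 x24 y24 (by decide +kernel) (by decide +kernel) 1024 (by decide +kernel) c24 t24
    (by decide +kernel) (by decide +kernel) (by decide +kernel) (by decide +kernel)
    (by rw [NotCT.Orders.m24 ⟨MulEquiv.refl _⟩]; decide +kernel)

theorem meet2_M24 {G : Type*} [Group G] [Finite G] [IsSimpleGroup G] (h : Spor.IsoM24 G) : MeetIn 2 G := by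
  obtain ⟨e⟩ := h
  exact meetIn_M24.congr e.symm

end Cfsg.Agent.H265.MeetM
end

-- part: H935/Meet/CoOne
section
/-!
# Trivial intersections of Sylow 2-subgroups: Co1 from M24

`H = 2^11:M24` is the stabiliser of the class `f0` of the standard frame; a non-trivial sign change fixes no odd
class of type 4.
-/

set_option autoImplicit false

namespace Cfsg.Agent.H935.Meet.CoOne

open Cfsg Cfsg.Spor
open Cfsg.Agent.H68.MeetB
open Cfsg.Agent.MonsterU.CoFrame Cfsg.Agent.MonsterU.CoFrameAct
open Cfsg.Agent.SporadicA.Co0Mono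
open Cfsg.Agent.SporadicA.Co1Simple
open Cfsg.Agent.SporadicStructure.Co0Base (e8 e8_coe)
open Cfsg.Agent.CoOneType.CoOneE (pr pr_surjective E mem_E)
open Cfsg.Agent.MonsterU.Lam2 (L2 cl cl_surjective cl_eq smul_cl IsType)
open Cfsg.Agent.MonsterU.CoFrameL2 (f0 pr_smul pr_smul_cl)
open Cfsg.Agent.MonsterU.CoFrameF (F toM24 toM24_surjective toM24_eq_one_iff odd_index_F)

/-- the odd vector `(5, -3, -3, 1^21)` -/
def oddFun : GolayPt → ℤ := fun p => if p = none then 5 else if p = some 0 ∨ p = some 1 then -3 else 1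

theorem oddFun_mem : oddFun ∈ leechSet :=
  mem_leechSet_of_const_mod_four oddFun 1 1 (by decide) (by decide) (by decide)

def oddVec : leechLattice := ⟨oddFun, AddSubgroup.subset_closure oddFun_mem⟩

theorem sqNorm_oddVec : sqNorm (oddVec : GolayPt → ℤ) = 64 := by
  show sqNorm oddFun = 64
  decide

theorem oddVec_not_mem : oddVec ∉ V23 := by
  intro h
  have := (mem_V23 _).1 h (some 2)
  revert this
  show ¬ (2 : ℤ) ∣ oddFun (some 2)
  decide

theorem sign_not_cong {v : leechLattice} (hv : v ∉ V23) {c : golayCode} (h : Cong (signCo0 c • v) v) :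
    c = 0 ∨ c = allOne := by
  obtain ⟨w, hw'⟩ := h
  have h1 : hw (signCo0 c • v - v) = c := hw_sign_sub hv c
  have h2 : signCo0 c • v - v = (2 : ℕ) • w := by rw [hw']; abel
  rw [h2] at h1
  have h3 := (mem_V12_iff_hw (V12_le_V23 (two_smul_mem_V12 w))).1 (two_smul_mem_V12 w)
  rw [h1] at h3
  rcases h3 with h3 | h3
  · left; exact Subtype.ext h3
  · right; exact Subtype.ext h3

theorem meet_co1 (h24 : MeetIn 2 M24) : MeetIn 2 Co1 := by
  have hfin : Finite Co1 := Nat.finite_of_card_ne_zero (by
    rw [Cfsg.Agent.MonsterU.CoFrameF.card_Co1]; norm_num)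
  obtain ⟨g, hg⟩ := IsType.trans (n := 4) (Or.inr (Or.inr rfl)) (x := cl oddVec) (y := f0)
    ⟨oddVec, by rw [sqNorm_oddVec]; norm_num, rfl⟩ ⟨e8 none, by rw [sqNorm_e8]; norm_num, rfl⟩
  refine of_core (fun h => ?_) toM24 toM24_surjective h24 (pr g) fun y hy hgy => ?_
  · obtain ⟨k, hk⟩ := odd_index_F
    omega
  · rw [toM24_eq_one_iff] at hy
    obtain ⟨c, hc⟩ := hy
    have h1 : (pr g * (y : Co1) * (pr g)⁻¹) • f0 = f0 :=
      (Cfsg.Agent.MonsterU.CoFrameL2.mem_F_iff _).1 hgy
    have h2 : (y : Co1) • cl oddVec = cl oddVec := by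
      have h3 : pr g • cl oddVec = f0 := hg
      rw [← h3, ← mul_smul, inv_mul_cancel_right, mul_smul, smul_left_cancel_iff] at h1
      exact h1
    have h4 : Cong (signCo0 c • oddVec) oddVec := by
      rw [Cfsg.Agent.MonsterU.CoFrameL2.cong_iff_cl, ← pr_smul_cl]
      have h5 : pr (signCo0 c) = (y : Co1) := hc.symm
      rw [h5]
      exact h2
    apply Subtype.ext
    have h5 : pr (signCo0 c) = (y : Co1) := hc.symm
    rw [← h5]
    show _ = (1 : Co1)
    rw [Cfsg.Agent.MonsterU.CoFrameF.pr_eq_one]
    rcases sign_not_cong oddVec_not_mem h4 with rfl | rfl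
    · left; exact signCo0_zero
    · right; rfl

/-- **Row Co1** -/
theorem meet2_Co1 {G : Type*} [Group G] [Finite G] [IsSimpleGroup G] (h : IsoCo1 G) : MeetIn 2 G := by
  obtain ⟨e⟩ := h
  exact (meet_co1 Cfsg.Agent.H265.MeetM.meetIn_M24).congr e.symm

end Cfsg.Agent.H935.Meet.CoOne
end

-- part: H935/Meet/CoTwo
section
/-!
# Trivial intersections of Sylow 2-subgroups: Co2 from M22:2

`H = 2^10:M22:2` is the stabiliser of the standard frame in `Co2`.
-/

set_option autoImplicit false

namespace Cfsg.Agent.H935.Meet.CoTwo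

open Cfsg Cfsg.Spor
open Cfsg.Agent.H68.MeetB
open Cfsg.Agent.SporadicA.GolayBase Cfsg.Agent.SporadicA.GolayPerm
open Cfsg.Agent.SporadicStructure.M24El
open Cfsg.Agent.MonsterU.CoFrame Cfsg.Agent.MonsterU.CoFrameAct
open Cfsg.Agent.SporadicA.Co0Mono
open Cfsg.Agent.SporadicA.Co1Simple
open Cfsg.Agent.SporadicStructure.Co0Base (e8 e8_coe)
open Cfsg.Agent.CoOneType.CoOneE (pr pr_surjective E mem_E)
open Cfsg.Agent.CoOneType.SignFacts
open Cfsg.Agent.MonsterU.Lam2 (L2 cl cl_surjective cl_eq smul_cl IsType)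
open Cfsg.Agent.MonsterU.CoFrameL2 (f0 pr_smul pr_smul_cl)
open Cfsg.Agent.MonsterU.CoFrameF (F toM24 toM24_surjective toM24_eq toM24_eq_one_iff pr_mem_F)
open Cfsg.Agent.Co2Type.Mono (cd toCo0 toCo0_injective toCo0_smul exists_toCo0 mo mo2 toCo0_mo2 inE okP okP_iff inE_zero
  exists_el ok_of_okP)
open scoped Pointwise
open Cfsg.Agent.H935.Meet.CoOne (oddVec sqNorm_oddVec oddVec_not_mem sign_not_cong)

/-- the stabiliser of the frame -/
def H : Subgroup Spor.Co2 := N.comap toCo0

theorem mem_H {g : Spor.Co2} : g ∈ H ↔ toCo0 g ∈ N := Iff.rfl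

theorem mo_mem_N (m P : ℕ) : mo m P ∈ N := N.mul_mem (sign_mem_N _) (perm_mem_N _)

theorem mo2_mem_H {m P : ℕ} (hm : inE m = true) (hP : okP P = true) : mo2 m P ∈ H := by
  rw [mem_H, toCo0_mo2 hm hP]
  exact mo_mem_N m P

theorem T_le_H : Cfsg.Agent.Co2Type.TGroup.T ≤ H := by
  intro g hg
  obtain ⟨m, P, hm, hP, rfl⟩ := Cfsg.Agent.Co2Type.TGroup.mem_T_iff.1 hg
  by_cases h : okP P = true
  · exact mo2_mem_H hm h
  · have : mo2 m P = 1 := by
      unfold mo2
      rw [dif_neg (fun h' => h h'.2)]
    rw [this]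
    exact H.one_mem

theorem odd_index_H : ¬ 2 ∣ H.index := fun h =>
  Cfsg.Agent.Co2Type.FactsClass.odd_index (h.trans (Subgroup.index_dvd_of_le T_le_H))

/-- the stabiliser of the duad `{∞, 0}` in `M24` -/
def D22 : Subgroup (Equiv.Perm GolayPt) :=
  M24 ⊓ MulAction.stabilizer (Equiv.Perm GolayPt) ({none, some 0} : Set GolayPt)

theorem mem_stab {σ : Equiv.Perm GolayPt} :
    σ ∈ MulAction.stabilizer (Equiv.Perm GolayPt) ({none, some 0} : Set GolayPt) ↔
      (σ none = none ∧ σ (some 0) = some 0) ∨ (σ none = some 0 ∧ σ (some 0) = none) := by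
  rw [MulAction.mem_stabilizer_iff, Set.smul_set_insert, Set.smul_set_singleton, Equiv.Perm.smul_def,
    Equiv.Perm.smul_def, Set.pair_eq_pair_iff]

/-- the map to `M24` -/
noncomputable def pi0 : H →* M24 :=
  toM24.comp ((pr.comp (toCo0.comp H.subtype)).codRestrict F fun y => pr_mem_F.2 y.2)

theorem pi0_eq {y : H} {m P : ℕ} (hm : inE m = true) (hP : okP P = true) (hy : (y : Spor.Co2) = mo2 m P) :
    pi0 y = el P := by
  refine toM24_eq (c := cd m) ?_
  show pr (toCo0 (y : Spor.Co2)) = _
  rw [hy, toCo0_mo2 hm hP]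
  rfl

theorem idx_none : idx (none : GolayPt) = 23 := rfl
theorem idx_zero : idx (some 0 : GolayPt) = 0 := rfl

theorem okP_iff_mem {P : ℕ} (hP : ok P = true) : okP P = true ↔ (el P : Equiv.Perm GolayPt) ∈ D22 := by
  have h1 : ∀ a b : GolayPt, (el P : Equiv.Perm GolayPt) a = b ↔ papp P (idx a) = idx b := by
    intro a b
    rw [coe_el hP, ← idx_permOf (ok_iff.1 hP).1]
    exact ⟨fun h => by rw [h], fun h => idx_injective h⟩
  rw [okP_iff, D22, Subgroup.mem_inf, mem_stab, h1, h1, h1, h1, idx_none, idx_zero]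
  constructor
  · rintro ⟨-, ⟨h, h'⟩ | ⟨h, h'⟩⟩
    · exact ⟨(el P).2, Or.inl ⟨h', h⟩⟩
    · exact ⟨(el P).2, Or.inr ⟨h', h⟩⟩
  · rintro ⟨-, ⟨h, h'⟩ | ⟨h, h'⟩⟩
    · exact ⟨hP, Or.inl ⟨h', h⟩⟩
    · exact ⟨hP, Or.inr ⟨h', h⟩⟩

theorem pi0_mem (y : H) : (pi0 y : Equiv.Perm GolayPt) ∈ D22 := by
  obtain ⟨m, Q, hm, hQ, -, h⟩ := Cfsg.Agent.KFacts.CoInv.TwoMono.mono_of_N (mem_H.1 y.2)
  rw [pi0_eq hm hQ h]
  exact (okP_iff_mem (ok_of_okP hQ)).1 hQ

/-- the map onto `D22` -/
noncomputable def pi : H →* D22 := (M24.subtype.comp pi0).codRestrict D22 pi0_mem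

theorem pi_surjective : Function.Surjective pi := by
  rintro ⟨σ, hσ⟩
  obtain ⟨P, hP, -, h⟩ := exists_el ⟨σ, hσ.1⟩
  have hP' : okP P = true := by
    rw [okP_iff_mem hP, h]
    exact hσ
  refine ⟨⟨mo2 0 P, mo2_mem_H inE_zero hP'⟩, ?_⟩
  apply Subtype.ext
  show (pi0 _ : Equiv.Perm GolayPt) = σ
  rw [pi0_eq inE_zero hP' rfl, h]

/-- the kernel consists of sign changes -/
theorem sign_of_pi {y : H} (hy : pi y = 1) : ∃ c : golayCode, toCo0 (y : Spor.Co2) = signCo0 c := by
  obtain ⟨m, Q, hm, hQ, -, h⟩ := Cfsg.Agent.KFacts.CoInv.TwoMono.mono_of_N (mem_H.1 y.2)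
  have h1 : pi0 y = 1 := by
    have h2 : ((pi y : D22) : Equiv.Perm GolayPt) = 1 := by rw [hy]; rfl
    exact Subtype.ext h2
  rw [pi0_eq hm hQ h] at h1
  refine ⟨cd m, ?_⟩
  rw [h, toCo0_mo2 hm hQ]
  show signCo0 (cd m) * permCo0 (el Q) = _
  rw [h1, map_one, mul_one]

theorem qr_zero : ((q 0 : golayCode) : GolayPt → ZMod 2) (some 0) = 1 := by
  show qrWord 0 (some 0) = 1
  decide

/-- the vector with `5` at infinity and `3` at `0` -/
def vec : leechLattice := signCo0 (q 0) • oddVec

theorem vec_none : ((vec : leechLattice) : GolayPt → ℤ) none = 5 := by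
  unfold vec
  rw [sign_coe, if_neg]
  · rfl
  · rw [notMem_sup]
    rfl

theorem vec_zero : ((vec : leechLattice) : GolayPt → ℤ) (some 0) = 3 := by
  unfold vec
  rw [sign_coe, if_pos]
  · rfl
  · rw [mem_sup]
    exact qr_zero

theorem sqNorm_vec : sqNorm ((vec : leechLattice) : GolayPt → ℤ) = 64 := by
  unfold vec
  rw [Cfsg.Agent.SporadicA.Co0Card.sqNorm_smul]
  exact sqNorm_oddVec

theorem vec_not_mem : vec ∉ V23 := by
  intro h
  have h1 : (2 : ℤ) ∣ ((vec : leechLattice) : GolayPt → ℤ) none := (mem_V23 _).1 h none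
  rw [vec_none] at h1
  omega

theorem leechU_coe (p : GolayPt) : ((leechU : leechLattice) : GolayPt → ℤ) p = if p = none ∨ p = some 0 then 4 else 0 :=
  rfl

/-- an element of `Co0` fixing `leechU` and taking `vec` to `e8 none` -/
theorem exists_move : ∃ g : Co0, g • leechU = leechU ∧ g • vec = e8 none := by
  obtain ⟨g1, hg1⟩ := Cfsg.Agent.CpAutBig.CoZero.exists_smul_eq (n := 64) (Or.inr (Or.inr rfl)) vec (e8 none)
    sqNorm_vec (sqNorm_e8 none)
  have hU : sqNorm ((leechU : leechLattice) : GolayPt → ℤ) = 32 := by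
    show sqNorm vecU = 32
    decide
  have hdot : dotInt ((vec : leechLattice) : GolayPt → ℤ) ((leechU : leechLattice) : GolayPt → ℤ) = 32 := by
    unfold dotInt
    have h1 : ∀ i ∈ (Finset.univ : Finset GolayPt), i ∉ ({none, some 0} : Finset GolayPt) →
        ((vec : leechLattice) : GolayPt → ℤ) i * ((leechU : leechLattice) : GolayPt → ℤ) i = 0 := by
      intro i _ hi
      rw [leechU_coe, if_neg (by simpa using hi), mul_zero]
    rw [← Finset.sum_subset (Finset.subset_univ ({none, some 0} : Finset GolayPt)) (fun i hi hi' => h1 i hi hi'),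
      Finset.sum_pair (by simp), vec_none, vec_zero, leechU_coe, leechU_coe]
    norm_num
  have hn : ((g1 • leechU : leechLattice) : GolayPt → ℤ) none = 4 := by
    have h1 := Cfsg.Agent.Leech.FrameAux.co0_dot g1 leechU vec
    rw [hg1, Cfsg.Agent.Leech.FrameAux.dot_comm ((leechU : leechLattice) : GolayPt → ℤ), hdot, e8_coe,
      Cfsg.Agent.Leech.FrameAux.dot_single_right] at h1
    omega
  obtain ⟨j, s, hj, hs, hx⟩ := Cfsg.Agent.Leech.FrameAux.shape_four (g1 • leechU).2
    (by rw [Cfsg.Agent.Leech.FrameAux.co0_sqNorm, hU]) hn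
  obtain ⟨σ, hσ, h1, h2⟩ := Cfsg.Agent.Leech.Dot16Trans.two_trans hj
  -- after the permutation
  have h3 : ((permCo0 ⟨σ, hσ⟩ • g1 • leechU : leechLattice) : GolayPt → ℤ) =
      Pi.single none 4 + Pi.single (some 0) (4 * s) := by
    funext i
    rw [perm_coe, hx, Pi.add_apply, Pi.add_apply, Pi.single_apply, Pi.single_apply, Pi.single_apply, Pi.single_apply]
    have e1 : σ.symm i = none ↔ i = none := by
      rw [Equiv.symm_apply_eq, h1]
    have e2 : σ.symm i = j ↔ i = some 0 := by
      rw [Equiv.symm_apply_eq, h2]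
    simp only [e1, e2]
  have h4 : permCo0 ⟨σ, hσ⟩ • (e8 none : leechLattice) = e8 none := by
    rw [perm_smul_e8]
    exact congrArg e8 h1
  -- the sign
  have h5 : ∃ c : golayCode, signCo0 c • (e8 none : leechLattice) = e8 none ∧
      signCo0 c • permCo0 ⟨σ, hσ⟩ • g1 • leechU = leechU := by
    have hq1 : (none : GolayPt) ∉ sup (q 0) := by
      rw [notMem_sup]; rfl
    have hq2 : (some 0 : GolayPt) ∈ sup (q 0) := by
      rw [mem_sup]
      exact qr_zero
    rcases hs with rfl | rfl
    · refine ⟨0, by rw [signCo0_zero, one_smul], ?_⟩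
      rw [signCo0_zero, one_smul]
      apply Subtype.ext
      rw [h3]
      funext i
      rw [Pi.add_apply, leechU_coe, Pi.single_apply, Pi.single_apply]
      by_cases ha : i = none
      · subst ha; simp
      · by_cases hb : i = some 0
        · subst hb; simp
        · simp [ha, hb]
    · refine ⟨q 0, ?_, ?_⟩
      · apply Subtype.ext
        funext i
        rw [sign_coe, e8_coe]
        by_cases hi : i = none
        · rw [hi, if_neg hq1]
        · rw [Pi.single_eq_of_ne hi]
          simp
      · apply Subtype.ext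
        funext i
        rw [sign_coe, h3, Pi.add_apply, leechU_coe, Pi.single_apply, Pi.single_apply]
        by_cases ha : i = none
        · subst ha
          rw [if_neg hq1]
          simp
        · by_cases hb : i = some 0
          · subst hb
            rw [if_pos hq2]
            simp
          · simp [ha, hb]
  obtain ⟨c, hc1, hc2⟩ := h5
  refine ⟨signCo0 c * permCo0 ⟨σ, hσ⟩ * g1, ?_, ?_⟩
  · rw [mul_smul, mul_smul, hc2]
  · rw [mul_smul, mul_smul, hg1, h4, hc1]

theorem meet_co2 (h22 : MeetIn 2 D22) : MeetIn 2 Spor.Co2 := by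
  have hfin : Finite Spor.Co2 := Nat.finite_of_card_ne_zero (by
    rw [Cfsg.Agent.Co2Type.CardCo2.card_co2]; norm_num)
  obtain ⟨g0, hg0, hg1⟩ := exists_move
  obtain ⟨g, hg⟩ := exists_toCo0 hg0
  refine of_core odd_index_H pi pi_surjective h22 g fun y hy hgy => ?_
  obtain ⟨c, hc⟩ := sign_of_pi hy
  have h1 : (pr (toCo0 (g * (y : Spor.Co2) * g⁻¹))) • f0 = f0 :=
    (Cfsg.Agent.MonsterU.CoFrameL2.mem_F_iff _).1
      ((Cfsg.Agent.MonsterU.CoFrameL2.pr_mem_F_iff _).2 (mem_H.1 hgy))
  have h2 : Cong (signCo0 c • vec) vec := by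
    rw [Cfsg.Agent.MonsterU.CoFrameL2.cong_iff_cl]
    have h3 : f0 = pr g0 • cl vec := by
      rw [pr_smul_cl, hg1]; rfl
    have h4 : pr (toCo0 (g * (y : Spor.Co2) * g⁻¹)) = pr g0 * pr (signCo0 c) * (pr g0)⁻¹ := by
      have h5 : toCo0 (g * (y : Spor.Co2) * g⁻¹) = g0 * signCo0 c * g0⁻¹ := by
        rw [map_mul toCo0, map_mul toCo0, map_inv toCo0, hg, hc]
      rw [h5, map_mul, map_mul, map_inv]
    rw [h4, h3, ← mul_smul, inv_mul_cancel_right, mul_smul, smul_left_cancel_iff, pr_smul_cl] at h1
    exact h1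
  apply Subtype.ext
  apply toCo0_injective
  rw [hc]
  show _ = toCo0 1
  rw [map_one]
  rcases sign_not_cong vec_not_mem h2 with rfl | rfl
  · exact signCo0_zero
  · exfalso
    have h3 := toCo0_smul (y : Spor.Co2)
    rw [hc, allOne_smul] at h3
    have h4 : (-leechU : leechLattice).1 none = leechU.1 none := by rw [h3]
    have h5 : (leechU : leechLattice).1 none = 4 := rfl
    have h6 : (-leechU : leechLattice).1 none = -((leechU : leechLattice).1 none) := rfl
    omega

end Cfsg.Agent.H935.Meet.CoTwo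
end

private theorem dce_05104d73d229 : _root_.True := by
  try have : _root_.True := by simp only [_root_.Cfsg.Agent.H265.MeetM.chk22.eq_1]
  try have : _root_.True := by simp only [_root_.Cfsg.Agent.H265.MeetM.chk11.eq_1]
  try have : _root_.True := by simp only [_root_.Cfsg.Agent.H935.Meet.CoTwo.D22.eq_1]
  try have : _root_.True := by simp only [_root_.Cfsg.Agent.H265.MeetM.chk12.eq_1]
  try have : _root_.True := by simp only [_root_.Cfsg.Agent.H265.MeetM.chk23.eq_1]
  exact _root_.True.intro
end
end
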